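import Groth.Agent.GrMod19.Bass.Step
import Groth.Agent.GrMod19.Coarse
import Groth.Agent.GrRing54.Height

/-!
Bass numbers at a prime and at its graded core, for a free grading group of finite rank.
-/

universe u

open DirectSum

namespace Groth.Agent.GrMod19.Bass

set_option autoImplicit false

variable {R : Type u} [CommRing R] {ι : Type} [AddCommGroup ι] [DecidableEq ι]
  (𝒜 : ι → AddSubgroup R) [GradedRing 𝒜]

/-- the coarsened grading of the ring -/
@[reducible]
noncomputable def coarseRing {κ : Type} [AddCommGroup κ] [DecidableEq κ] (φ : ι →+ κ) :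
    GradedRing (coarse φ 𝒜) :=
  { (isInternal_coarse φ 𝒜).chooseDecomposition with
    one_mem := le_coarse φ 𝒜 (map_zero φ) (SetLike.one_mem_graded 𝒜)
    mul_mem := fun i j a b ha hb => by
      change b ∈ (coarse φ 𝒜 (i + j)).comap (AddMonoidHom.mulLeft a)
      refine coarse_le φ 𝒜 (fun g hg y hy => ?_) hb
      change a ∈ (coarse φ 𝒜 (i + j)).comap (AddMonoidHom.mulRight y)
      refine coarse_le φ 𝒜 (fun g' hg' x hx => ?_) ha
      exact le_coarse φ 𝒜 (by rw [map_add, hg', hg]) (SetLike.mul_mem_graded hx hy) }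

theorem homogeneousCore_coarse_eq (L : ι →+ ℤ) [GradedRing (coarse L 𝒜)] (p : Ideal R) :
    (p.homogeneousCore (coarse L 𝒜)).toIdeal = GrRing54.core 𝒜 L p := by
  have hcmp : ∀ k x, GrInj18.cmp (coarse L 𝒜) k x = GrRing54.comp 𝒜 L k x := fun k x => by
    induction x using GrInj18.piece_induction 𝒜 with
    | h0 => simp
    | hadd a b ha hb => rw [map_add, map_add, ha, hb]
    | hp g a ha =>
      rw [GrRing54.comp_of_mem 𝒜 L ha, GrInj18.cmp_ite (coarse L 𝒜) (le_coarse L 𝒜 rfl ha)]
  ext x
  rw [GrRing54.mem_core]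
  refine ⟨fun hx k => ?_, fun hx => ?_⟩
  · rw [← hcmp]
    exact Ideal.toIdeal_homogeneousCore_le _ p (cmp_mem_core (coarse L 𝒜) hx k)
  · obtain ⟨t, ht⟩ := GrInj18.exists_sum_cmp (coarse L 𝒜) x
    rw [← ht]
    exact sum_mem fun k _ => mem_core_of_mem (coarse L 𝒜) (GrInj18.cmp_mem (coarse L 𝒜) k x)
      (by rw [hcmp]; exact hx k)

lemma bassNum_congr {p q : Ideal R} [p.IsPrime] [q.IsPrime] (h : p = q) (M : Type u) [AddCommGroup M]
    [Module R M] (i : ℕ) : GrLC.bassNum p M i = GrLC.bassNum q M i := by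
  subst h; rfl

/-- one coarsened step -/
theorem step_core [IsNoetherianRing R] {M : Type u} [AddCommGroup M] [Module R M]
    (ℳ : ι → AddSubgroup M) [Decomposition ℳ] [SetLike.GradedSMul 𝒜 ℳ] (L : ι →+ ℤ) {P Q : Ideal R}
    [P.IsPrime] [Q.IsPrime] (hQ : Q = GrRing54.core 𝒜 L P) (hne : Q ≠ P) :
    GrLC.bassNum P M 0 = 0 ∧ ∀ i, GrLC.bassNum P M (i + 1) = GrLC.bassNum Q M i := by
  let : GradedRing (coarse L 𝒜) := coarseRing 𝒜 L
  let : Decomposition (coarse L ℳ) := (isInternal_coarse L ℳ).chooseDecomposition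
  have := gsmul_coarse (φ := L) (𝒜 := 𝒜) (𝒜' := coarse L 𝒜) (fun _ => rfl) ℳ
  have hQ' : (P.homogeneousCore (coarse L 𝒜)).toIdeal = Q :=
    (homogeneousCore_coarse_eq 𝒜 L P).trans hQ.symm
  have : (P.homogeneousCore (coarse L 𝒜)).toIdeal.IsPrime := hQ' ▸ ‹Q.IsPrime›
  obtain ⟨h0, hs⟩ := bass_step (coarse L 𝒜) (coarse L ℳ) (M := M) P
    fun h => hne (by rw [← hQ', h.toIdeal_homogeneousCore_eq_self])
  exact ⟨h0, fun i => (hs i).trans (bassNum_congr hQ' M i)⟩

/-- successive cores reach the graded core -/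
theorem exists_chain [Module.Free ℤ ι] [Module.Finite ℤ ι] (p : Ideal R) [hp : p.IsPrime] :
    ∃ (r : ℕ) (P : ℕ → Ideal R) (L : ℕ → (ι →+ ℤ)), P 0 = p ∧ P r = (p.homogeneousCore 𝒜).toIdeal ∧
      (∀ t, (P t).IsPrime) ∧ (∀ t, P (t + 1) = GrRing54.core 𝒜 (L t) (P t)) ∧
      ∀ t, (p.homogeneousCore 𝒜).toIdeal ≤ P t := by
  classical
  set C := (p.homogeneousCore 𝒜).toIdeal with hC
  set r := Module.finrank ℤ ι
  let b := Module.finBasis ℤ ι
  let L : ℕ → (ι →+ ℤ) := fun t => if h : t < r then (b.coord ⟨t, h⟩).toAddMonoidHom else 0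
  obtain ⟨P, hP0, hPs⟩ : ∃ P : ℕ → Ideal R, P 0 = p ∧ ∀ t, P (t + 1) = GrRing54.core 𝒜 (L t) (P t) :=
    ⟨fun t => Nat.rec (motive := fun _ => Ideal R) p (fun s I => GrRing54.core 𝒜 (L s) I) t, rfl,
      fun _ => rfl⟩
  have hPp : ∀ t, P t ≤ p := fun t => by
    induction t with
    | zero => exact hP0.le
    | succ t ih => exact ((hPs t).le.trans (GrRing54.core_le 𝒜 (L t) _)).trans ih
  have hinv : ∀ t, ∀ s < t, ∀ x ∈ P t, ∀ k, GrRing54.comp 𝒜 (L s) k x ∈ P t := by
    intro t
    induction t with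
    | zero => intro s hs; omega
    | succ t ih =>
      intro s hs
      rw [hPs]
      rcases Nat.lt_succ_iff_lt_or_eq.1 hs with hs | rfl
      · exact GrRing54.comp_mem_core_of_comp 𝒜 (L t) (L s) (ih s hs)
      · exact fun x hx k => GrRing54.comp_mem_core 𝒜 (L s) hx k
  have hCP : ∀ t, C ≤ P t := fun t => by
    induction t with
    | zero => exact (Ideal.toIdeal_homogeneousCore_le 𝒜 p).trans hP0.ge
    | succ t ih =>
      intro x hx
      rw [hPs]
      refine (GrRing54.mem_core 𝒜 (L t)).2 fun k => ih ?_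
      rw [← DirectSum.sum_support_decompose 𝒜 x, map_sum]
      refine sum_mem fun i _ => ?_
      rw [GrRing54.comp_of_mem 𝒜 (L t) (SetLike.coe_mem _)]
      split_ifs
      · exact (p.homogeneousCore 𝒜).isHomogeneous i hx
      · exact zero_mem _
  have hr : P r ≤ C := by
    intro x hx
    rw [← DirectSum.sum_support_decompose 𝒜 x]
    refine sum_mem fun i hi => Ideal.mem_homogeneousCore_of_homogeneous_of_mem
      ⟨i, SetLike.coe_mem _⟩ (hPp r ?_)
    let y : ℕ → R := fun t => ∑ j ∈ (DirectSum.decompose 𝒜 x).support with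
      ∀ s < t, L s j = L s i, (DirectSum.decompose 𝒜 x j : R)
    have hy : ∀ t, t ≤ r → y t ∈ P r := by
      intro t ht
      induction t with
      | zero => simpa [y, DirectSum.sum_support_decompose] using hx
      | succ t ih =>
        have : y (t + 1) = GrRing54.comp 𝒜 (L t) (L t i) (y t) := by
          simp only [y, map_sum]
          rw [Finset.sum_filter, Finset.sum_filter]
          refine Finset.sum_congr rfl fun j _ => ?_
          rw [GrRing54.comp_of_mem 𝒜 (L t) (SetLike.coe_mem _), ← ite_and]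
          congr 1
          refine propext ⟨fun h => ⟨fun s hs => h s (by omega), h t (by omega)⟩, fun h s hs => ?_⟩
          rcases Nat.lt_succ_iff_lt_or_eq.1 hs with hs | rfl
          exacts [h.1 s hs, h.2]
        rw [this]
        exact hinv r t (by omega) _ (ih (by omega)) _
    have := hy r le_rfl
    have heq : y r = (DirectSum.decompose 𝒜 x i : R) := by
      simp only [y]
      rw [Finset.sum_eq_single_of_mem i (Finset.mem_filter.2 ⟨hi, fun _ _ => rfl⟩)]
      intro j hj hne
      refine absurd ?_ hne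
      refine b.repr.injective (Finsupp.ext fun s => ?_)
      have hjs := (Finset.mem_filter.1 hj).2 s.1 s.2
      rw [show L s.1 = (b.coord s).toAddMonoidHom from dif_pos s.2] at hjs
      exact hjs
    rwa [heq] at this
  refine ⟨r, P, L, hP0, le_antisymm hr (hCP r), fun t => ?_, hPs, hCP⟩
  induction t with
  | zero => rw [hP0]; exact hp
  | succ t ih => rw [hPs]; exact GrRing54.core_isPrime 𝒜 (L t) _

variable [IsNoetherianRing R] [Module.Free ℤ ι] [Module.Finite ℤ ι] {M : Type u} [AddCommGroup M]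
  [Module R M] (ℳ : ι → AddSubgroup M) [Decomposition ℳ] [SetLike.GradedSMul 𝒜 ℳ]

include ℳ in
/-- Bass numbers shift by the height over the graded core -/
theorem bass_core (p : Ideal R) [p.IsPrime] [(p.homogeneousCore 𝒜).toIdeal.IsPrime] (d : ℕ)
    (hd : (p.map (Ideal.Quotient.mk (p.homogeneousCore 𝒜).toIdeal)).height = d) :
    (∀ i, i < d → GrLC.bassNum p M i = 0) ∧
      ∀ i, GrLC.bassNum p M (i + d) = GrLC.bassNum (p.homogeneousCore 𝒜).toIdeal M i := by
  set C := (p.homogeneousCore 𝒜).toIdeal with hC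
  obtain ⟨r, P, L, hP0, hPr, hprime, hPs, hCP⟩ := exists_chain 𝒜 p
  rw [← hC] at hPr hCP
  have hs : Function.Surjective (Ideal.Quotient.mk C) := Ideal.Quotient.mk_surjective
  have hk : ∀ u, RingHom.ker (Ideal.Quotient.mk C) ≤ P u := fun u => by
    rw [Ideal.mk_ker]; exact hCP u
  have key : ∀ s t, t + s = r → ∃ e : ℕ,
      (∀ i, i < e → @GrLC.bassNum R _ (P t) (hprime t) M _ _ i = 0) ∧
      (∀ i, @GrLC.bassNum R _ (P t) (hprime t) M _ _ (i + e) = GrLC.bassNum C M i) ∧
      (P t).height ≤ C.height + e ∧ (e : ℕ∞) ≤ ((P t).map (Ideal.Quotient.mk C)).height := by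
    intro s
    induction s with
    | zero =>
      intro t ht
      obtain rfl : t = r := by omega
      have := hprime t
      exact ⟨0, fun i hi => absurd hi (Nat.not_lt_zero i), fun i => bassNum_congr hPr M i,
        by rw [hPr]; simp, by simp⟩
    | succ s ih =>
      intro t ht
      obtain ⟨e, h1, h2, h3, h4⟩ := ih (t + 1) (by omega)
      have := hprime t
      have := hprime (t + 1)
      rcases eq_or_ne (P (t + 1)) (P t) with he | he
      · exact ⟨e, fun i hi => (bassNum_congr he.symm M i).trans (h1 i hi),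
          fun i => (bassNum_congr he.symm M _).trans (h2 i), he ▸ h3, he ▸ h4⟩
      obtain ⟨g0, gs⟩ := step_core 𝒜 ℳ (L t) (hPs t) he
      refine ⟨e + 1, fun i hi => ?_, fun i => (gs (i + e)).trans (h2 i), ?_, ?_⟩
      · rcases i with _ | i
        · exact g0
        · exact (gs i).trans (h1 i (by omega))
      · calc (P t).height ≤ (P (t + 1)).height + 1 := by
              rw [hPs t]; exact GrRing54.height_le_core_add_one 𝒜 (L t) (P t)
          _ ≤ C.height + e + 1 := by gcongr
          _ = _ := by push_cast; rw [add_assoc]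
      · have : ((P t).map (Ideal.Quotient.mk C)).IsPrime :=
          Ideal.map_isPrime_of_surjective (H := hprime t) hs (hk t)
        have : ((P (t + 1)).map (Ideal.Quotient.mk C)).IsPrime :=
          Ideal.map_isPrime_of_surjective (H := hprime (t + 1)) hs (hk (t + 1))
        have hlt : (P (t + 1)).map (Ideal.Quotient.mk C) < (P t).map (Ideal.Quotient.mk C) := by
          refine (Ideal.map_mono ((hPs t).le.trans (GrRing54.core_le 𝒜 _ _))).lt_of_ne fun h' => he ?_
          have := congrArg (Ideal.comap (Ideal.Quotient.mk C)) h'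
          rwa [Ideal.comap_map_of_surjective _ hs, Ideal.comap_map_of_surjective _ hs,
            ← RingHom.ker_eq_comap_bot, sup_eq_left.2 (hk (t + 1)), sup_eq_left.2 (hk t)] at this
        push_cast
        exact le_trans (by gcongr) (Ideal.height_add_one_le_of_lt_of_isPrime hlt)
  obtain ⟨e, h1, h2, h3, h4⟩ := key r 0 (zero_add r)
  have hed : e = d := by
    subst hP0
    have := GrRing54.height_eq_core_add 𝒜 (P 0)
    rw [← hC, hd] at this
    rw [this, ENat.add_le_add_iff_left (Ideal.height_ne_top_of_isPrime (I := C))] at h3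
    rw [hd] at h4
    exact le_antisymm (by exact_mod_cast h4) (by exact_mod_cast h3)
  subst hed
  exact ⟨fun i hi => (bassNum_congr hP0.symm M i).trans (h1 i hi),
    fun i => (bassNum_congr hP0.symm M _).trans (h2 i)⟩

end Groth.Agent.GrMod19.Bass
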