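import Groth.Agent.EGA4Alg4.Depth
import Groth.Prelude.Def_GrLC2
import Mathlib.Algebra.Homology.DerivedCategory.Ext.EnoughProjectives

/-! Depth of a localised finite module through Bass numbers. -/

universe u

open CategoryTheory

namespace Groth.Agent.GrMod19.Bass

set_option autoImplicit false

variable {R : Type u} [CommRing R] [IsNoetherianRing R] {M : Type u} [AddCommGroup M] [Module R M]
  [Module.Finite R M]

theorem natCast_le_depth_iff_bass (p : Ideal R) [p.IsPrime] (n : ℕ) :
    (n : ℕ∞) ≤ LocCoh.depth (Localization.AtPrime p) (LocalizedModule p.primeCompl M) ↔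
      ∀ i < n, GrLC.bassNum p M i = 0 := by
  rcases subsingleton_or_nontrivial (LocalizedModule p.primeCompl M) with h | h
  · rw [EGA4Alg4.depth_of_subsingleton]
    refine ⟨fun _ i _ => ?_, fun _ => le_top⟩
    change Module.length _ _ = 0
    rw [Module.length_eq_zero_iff]
    exact subsingleton_of_forall_eq 0 fun x => by
      rw [← x.comp_mk₀_id, show 𝟙 (ModuleCat.of (Localization.AtPrime p)
        (LocalizedModule p.primeCompl M)) = 0 from (ModuleCat.isZero_of_subsingleton _).eq_of_src _ _,
        Abelian.Ext.mk₀_zero, Abelian.Ext.comp_zero]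
  · rw [EGA4Alg4.natCast_le_depth_iff_ext]
    exact forall₂_congr fun i _ => Module.length_eq_zero_iff.symm

end Groth.Agent.GrMod19.Bass
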