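import Groth.Agent.GrInj18.Basic
import Groth.Agent.GrRing54.Height
import Mathlib.RingTheory.KrullDimension.Module
import Mathlib.RingTheory.Ideal.Height
import Mathlib.Algebra.Module.LocalizedModule.Submodule

/-!
Dimension of the localisation of a finite graded module at a prime and at its graded core.
-/

universe u

open DirectSum

namespace Groth.Agent.GrMod19.Bass

set_option autoImplicit false

variable {R : Type u} [CommRing R]

section Localized

variable {M : Type u} [AddCommGroup M] [Module R M] [Module.Finite R M]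
  (P : Ideal R) [P.IsPrime]

theorem mem_support_localized (Q : PrimeSpectrum (Localization.AtPrime P)) :
    Q ∈ Module.support (Localization.AtPrime P) (LocalizedModule P.primeCompl M) ↔
      Module.annihilator R M ≤ Q.asIdeal.comap (algebraMap R (Localization.AtPrime P)) := by
  have : Module.Finite (Localization.AtPrime P) (LocalizedModule P.primeCompl M) :=
    Module.Finite.of_isLocalizedModule P.primeCompl (LocalizedModule.mkLinearMap P.primeCompl M)
  rw [Module.mem_support_iff_of_finite]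
  refine ⟨fun h a ha => h (Module.mem_annihilator.2 fun z => ?_), fun h z hz => ?_⟩
  · induction z using LocalizedModule.induction_on with
    | h m t => rw [algebraMap_smul, LocalizedModule.smul'_mk, Module.mem_annihilator.1 ha m,
        LocalizedModule.zero_mk]
  · obtain ⟨a, t, rfl⟩ := IsLocalization.exists_mk'_eq P.primeCompl z
    rw [IsLocalization.mk'_mem_iff]
    have hkill : ∀ m : M, ∃ v : P.primeCompl, ((v : R) * a) • m = 0 := fun m => by
      have h0 : algebraMap R (Localization.AtPrime P) a • LocalizedModule.mkLinearMap P.primeCompl M m = 0 := by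
        rw [← IsLocalization.mk'_spec (Localization.AtPrime P) a t, mul_comm, mul_smul, Module.mem_annihilator.1 hz,
          smul_zero]
      rw [algebraMap_smul, ← map_smul] at h0
      obtain ⟨v, hv, hv'⟩ := LocalizedModule.mem_ker_mkLinearMap_iff.1 (LinearMap.mem_ker.2 h0)
      exact ⟨⟨v, hv⟩, (mul_smul v a m).trans hv'⟩
    classical
    choose v hv using hkill
    obtain ⟨s, hs⟩ := Module.Finite.fg_top (R := R) (M := M)
    have hwa : ((∏ m ∈ s, v m : P.primeCompl) : R) * a ∈ Module.annihilator R M := by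
      rw [← Submodule.annihilator_top, ← hs, Submodule.mem_annihilator_span]
      rintro ⟨m, hm⟩
      change (((∏ m ∈ s, v m : P.primeCompl) : R) * a) • m = 0
      rw [← Finset.prod_erase_mul s v hm, Submonoid.coe_mul, mul_assoc, mul_smul, hv, smul_zero]
    have hq := h hwa
    rw [Ideal.mem_comap, map_mul] at hq
    exact (Q.isPrime.mem_or_mem hq).resolve_left fun hu =>
      Q.isPrime.ne_top (Ideal.eq_top_of_isUnit_mem _ hu
        (IsLocalization.map_units (Localization.AtPrime P) (∏ m ∈ s, v m)))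

theorem height_eq_krullDim (J : Ideal R) (hP : (P.map (Ideal.Quotient.mk J)).IsPrime) :
    ((P.map (Ideal.Quotient.mk J)).height : WithBot ℕ∞) =
      Order.krullDim (Set.Iic (⟨_, hP⟩ : PrimeSpectrum (R ⧸ J))) := by
  rw [← Order.height_eq_krullDim_Iic]
  exact congrArg _ (PrimeSpectrum.height_eq_orderHeight ⟨_, hP⟩)

theorem krullDim_le_height {J : Ideal R} (hJP : J ≤ P) (S : Set (PrimeSpectrum (Localization.AtPrime P)))
    (hS : ∀ Q ∈ S, J ≤ Q.asIdeal.comap (algebraMap R (Localization.AtPrime P))) :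
    Order.krullDim S ≤ ((P.map (Ideal.Quotient.mk J)).height : WithBot ℕ∞) := by
  have hs : Function.Surjective (Ideal.Quotient.mk J) := Ideal.Quotient.mk_surjective
  have hPbar : (P.map (Ideal.Quotient.mk J)).IsPrime :=
    Ideal.map_isPrime_of_surjective hs (by rwa [Ideal.mk_ker])
  rw [height_eq_krullDim P J hPbar]
  refine Order.krullDim_le_of_strictMono
    (fun Q => ⟨⟨(Q.1.asIdeal.comap (algebraMap R (Localization.AtPrime P))).map (Ideal.Quotient.mk J),
      Ideal.map_isPrime_of_surjective hs (by rw [Ideal.mk_ker]; exact hS _ Q.2)⟩,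
      Ideal.map_mono fun t ht => (IsLocalization.AtPrime.to_map_mem_maximal_iff (Localization.AtPrime P) P t).1
        (IsLocalRing.le_maximalIdeal Q.1.isPrime.ne_top ht)⟩) fun A B hAB => ?_
  have hle : A.1.asIdeal ≤ B.1.asIdeal := hAB.le
  refine Subtype.mk_lt_mk.2 (lt_of_le_not_ge (Ideal.map_mono (Ideal.comap_mono hle)) fun hge => ?_)
  refine hAB.not_ge (?_ : B.1.asIdeal ≤ A.1.asIdeal)
  have h2 := Ideal.comap_mono (f := Ideal.Quotient.mk J) hge
  rw [Ideal.comap_map_of_surjective _ hs, Ideal.comap_map_of_surjective _ hs,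
    ← RingHom.ker_eq_comap_bot, Ideal.mk_ker, sup_eq_left.2 (hS _ A.2), sup_eq_left.2 (hS _ B.2)] at h2
  rw [← IsLocalization.map_under P.primeCompl (Localization.AtPrime P) B.1.asIdeal,
    ← IsLocalization.map_under P.primeCompl (Localization.AtPrime P) A.1.asIdeal]
  exact Ideal.map_mono h2

theorem height_le_krullDim {J : Ideal R} (hJP : J ≤ P) (S : Set (PrimeSpectrum (Localization.AtPrime P)))
    (hS : ∀ Q : PrimeSpectrum (Localization.AtPrime P),
      J ≤ Q.asIdeal.comap (algebraMap R (Localization.AtPrime P)) → Q ∈ S) :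
    ((P.map (Ideal.Quotient.mk J)).height : WithBot ℕ∞) ≤ Order.krullDim S := by
  have hs : Function.Surjective (Ideal.Quotient.mk J) := Ideal.Quotient.mk_surjective
  have hPbar : (P.map (Ideal.Quotient.mk J)).IsPrime :=
    Ideal.map_isPrime_of_surjective hs (by rwa [Ideal.mk_ker])
  rw [height_eq_krullDim P J hPbar]
  have hdisj : ∀ A : Set.Iic (⟨_, hPbar⟩ : PrimeSpectrum (R ⧸ J)),
      Disjoint (P.primeCompl : Set R) (A.1.asIdeal.comap (Ideal.Quotient.mk J)) := fun A =>
    Set.disjoint_left.2 fun x hx hxA => hx (by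
      have h := Ideal.mem_comap.1 hxA
      have h' : Ideal.Quotient.mk J x ∈ P.map (Ideal.Quotient.mk J) := A.2 h
      rwa [← Ideal.mem_comap, Ideal.comap_map_of_surjective _ hs, ← RingHom.ker_eq_comap_bot,
        Ideal.mk_ker, sup_eq_left.2 hJP] at h')
  have hprime : ∀ A : Set.Iic (⟨_, hPbar⟩ : PrimeSpectrum (R ⧸ J)),
      ((A.1.asIdeal.comap (Ideal.Quotient.mk J)).map (algebraMap R (Localization.AtPrime P))).IsPrime :=
    fun A => IsLocalization.isPrime_of_isPrime_disjoint P.primeCompl _ _ (A.1.isPrime.comap _) (hdisj A)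
  refine Order.krullDim_le_of_strictMono (fun A => ⟨⟨_, hprime A⟩, hS _ ?_⟩) fun A B hAB => ?_
  · exact le_trans (fun a ha => by
      rw [Ideal.mem_comap, Ideal.Quotient.eq_zero_iff_mem.2 ha]; exact zero_mem _) Ideal.le_comap_map
  have hle : A.1.asIdeal ≤ B.1.asIdeal := hAB.le
  refine Subtype.mk_lt_mk.2 (lt_of_le_not_ge (Ideal.map_mono (Ideal.comap_mono hle)) fun hge => ?_)
  refine hAB.not_ge (?_ : B.1.asIdeal ≤ A.1.asIdeal)
  refine (Ideal.comap_le_comap_iff_of_surjective _ hs _ _).1 ?_
  rw [← IsLocalization.under_map_of_isPrime_disjoint P.primeCompl (Localization.AtPrime P)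
    (B.1.isPrime.comap _) (hdisj B), ← IsLocalization.under_map_of_isPrime_disjoint P.primeCompl
      (Localization.AtPrime P) (A.1.isPrime.comap _) (hdisj A)]
  exact Ideal.comap_mono hge

theorem supportDim_localized_eq (hP : Module.annihilator R M ≤ P) :
    Module.supportDim (Localization.AtPrime P) (LocalizedModule P.primeCompl M) =
      ((P.map (Ideal.Quotient.mk (Module.annihilator R M))).height : WithBot ℕ∞) :=
  le_antisymm (krullDim_le_height P hP _ fun Q hQ => (mem_support_localized P Q).1 hQ)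
    (height_le_krullDim P hP _ fun Q hQ => (mem_support_localized P Q).2 hQ)


end Localized

variable {ι : Type} [AddCommGroup ι] [DecidableEq ι] [Module.Free ℤ ι] [Module.Finite ℤ ι]
  [IsNoetherianRing R] (𝒜 : ι → AddSubgroup R) [GradedRing 𝒜]

/-- height over a homogeneous ideal and the graded core -/
theorem height_map_eq_core_add (J : Ideal R) (hJ : J.IsHomogeneous 𝒜) (P : Ideal R) [P.IsPrime]
    (hJP : J ≤ P) :
    (P.map (Ideal.Quotient.mk J)).height =
      ((P.homogeneousCore 𝒜).toIdeal.map (Ideal.Quotient.mk J)).height +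
        (P.map (Ideal.Quotient.mk (P.homogeneousCore 𝒜).toIdeal)).height := by
  have hJh : Submodule.IsHomogeneous (J : Submodule R R) 𝒜 := fun i _ hx => hJ i hx
  let ℬ : ι → AddSubgroup (R ⧸ J) := GrInj18.quotPieces 𝒜 (J : Submodule R R)
  let : GradedRing ℬ :=
    { (GrInj18.quotPieces_isInternal 𝒜 hJh).chooseDecomposition with
      one_mem := ⟨1, SetLike.one_mem_graded 𝒜, rfl⟩
      mul_mem := fun i j a b ha hb => by
        obtain ⟨x, hx, rfl⟩ := ha
        obtain ⟨y, hy, rfl⟩ := hb
        exact ⟨x * y, SetLike.mul_mem_graded (A := 𝒜) hx hy, rfl⟩ }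
  have hs : Function.Surjective (Ideal.Quotient.mk J) := Ideal.Quotient.mk_surjective
  have hCle : (P.homogeneousCore 𝒜).toIdeal ≤ P := Ideal.toIdeal_homogeneousCore_le 𝒜 P
  have hJC : J ≤ (P.homogeneousCore 𝒜).toIdeal := fun x hx => by
    obtain ⟨t, ht⟩ := GrInj18.exists_sum_cmp 𝒜 x
    rw [← ht]
    exact sum_mem fun i _ => Ideal.mem_homogeneousCore_of_homogeneous_of_mem
      ⟨i, GrInj18.cmp_mem 𝒜 i x⟩ (hJP (hJ i hx))
  have hPbar : (P.map (Ideal.Quotient.mk J)).IsPrime :=
    Ideal.map_isPrime_of_surjective hs (by rwa [Ideal.mk_ker])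
  have hcmp : ∀ i x, GrInj18.cmp ℬ i (Ideal.Quotient.mk J x) = Ideal.Quotient.mk J (GrInj18.cmp 𝒜 i x) :=
    fun i x => by
      induction x using GrInj18.piece_induction 𝒜 with
      | h0 => simp
      | hadd a b ha hb => rw [map_add, map_add, ha, hb, map_add, map_add]
      | hp j a ha =>
        rw [GrInj18.cmp_ite 𝒜 ha, GrInj18.cmp_ite ℬ (d := j) (show Ideal.Quotient.mk J a ∈ ℬ j from ⟨a, ha, rfl⟩)]
        split_ifs <;> simp
  have hcore : ((P.map (Ideal.Quotient.mk J)).homogeneousCore ℬ).toIdeal =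
      (P.homogeneousCore 𝒜).toIdeal.map (Ideal.Quotient.mk J) := by
    refine le_antisymm (fun y hy => ?_) (Ideal.map_le_iff_le_comap.2 fun x hx => ?_)
    · obtain ⟨x, rfl⟩ := hs y
      obtain ⟨t, ht⟩ := GrInj18.exists_sum_cmp 𝒜 x
      rw [← ht, map_sum]
      refine sum_mem fun i _ => Ideal.mem_map_of_mem _ ?_
      refine Ideal.mem_homogeneousCore_of_homogeneous_of_mem ⟨i, GrInj18.cmp_mem 𝒜 i x⟩ ?_
      have h : GrInj18.cmp ℬ i (Ideal.Quotient.mk J x) ∈ P.map (Ideal.Quotient.mk J) :=
        Ideal.toIdeal_homogeneousCore_le _ _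
          (((P.map (Ideal.Quotient.mk J)).homogeneousCore ℬ).isHomogeneous i hy)
      rwa [hcmp, ← Ideal.mem_comap, Ideal.comap_map_of_surjective _ hs, ← RingHom.ker_eq_comap_bot,
        Ideal.mk_ker, sup_eq_left.2 hJP] at h
    · rw [Ideal.mem_comap]
      obtain ⟨t, ht⟩ := GrInj18.exists_sum_cmp 𝒜 x
      rw [← ht, map_sum]
      exact sum_mem fun i _ => Ideal.mem_homogeneousCore_of_homogeneous_of_mem
        ⟨i, ⟨_, GrInj18.cmp_mem 𝒜 i x, rfl⟩⟩
        (Ideal.mem_map_of_mem _ (hCle ((P.homogeneousCore 𝒜).isHomogeneous i hx)))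
  rw [GrRing54.height_eq_core_add ℬ (P.map (Ideal.Quotient.mk J)), hcore]
  congr 1
  let e := DoubleQuot.quotQuotEquivQuotOfLE hJC
  rw [← RingEquiv.height_map e, Ideal.map_map, ← Ideal.map_coe, Ideal.map_map]
  rfl

end Groth.Agent.GrMod19.Bass
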