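import Groth.Agent.GrInj18.Ext
import Groth.Agent.LC16.ExtLocal

/-!
Ext out of a finite graded module into a graded module carries a grading.
-/

universe u

open DirectSum GrLC CategoryTheory

namespace Groth.Agent.GrMod19.Bass

set_option autoImplicit false

variable {ι : Type} [AddCommGroup ι] [DecidableEq ι] {R : Type u} [CommRing R]
  (𝒜 : ι → AddSubgroup R) [GradedRing 𝒜]

/-- the module carries some grading compatible with `𝒜` -/
def Gradable (X : Type u) [AddCommGroup X] [Module R X] : Prop :=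
  ∃ 𝒳 : ι → AddSubgroup X, IsInternal 𝒳 ∧ SetLike.GradedSMul 𝒜 𝒳

variable {𝒜}

lemma Gradable.of_equiv {X Y : Type u} [AddCommGroup X] [Module R X] [AddCommGroup Y] [Module R Y]
    (e : X ≃ₗ[R] Y) (h : Gradable 𝒜 X) : Gradable 𝒜 Y := by
  obtain ⟨𝒳, hint, hsm⟩ := h
  let : Decomposition 𝒳 := hint.chooseDecomposition
  let f : X →+ Y := e.toLinearMap.toAddMonoidHom
  refine ⟨fun i => (𝒳 i).map f, ?_, ⟨fun {i j} a y ha hy => ?_⟩⟩
  · refine GrInj18.isInternal_of_proj _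
      (fun d => f.comp ((GrInj18.cmp 𝒳 d).comp e.symm.toLinearMap.toAddMonoidHom))
      (fun d y => ⟨_, GrInj18.cmp_mem 𝒳 d _, rfl⟩) (fun y => ?_) (fun d y hy => ?_)
      fun d d' y hy hne => ?_
    · obtain ⟨t, ht⟩ := GrInj18.exists_sum_cmp 𝒳 (e.symm y)
      refine ⟨t, ?_⟩
      change ∑ d ∈ t, e (GrInj18.cmp 𝒳 d (e.symm y)) = y
      rw [← map_sum, ht, e.apply_symm_apply]
    · obtain ⟨x, hx, rfl⟩ := hy
      change e (GrInj18.cmp 𝒳 d (e.symm (e x))) = e x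
      rw [e.symm_apply_apply, GrInj18.cmp_of_mem 𝒳 hx]
    · obtain ⟨x, hx, rfl⟩ := hy
      change e (GrInj18.cmp 𝒳 d' (e.symm (e x))) = 0
      rw [e.symm_apply_apply, GrInj18.cmp_of_ne 𝒳 hx hne, map_zero]
  · obtain ⟨x, hx, rfl⟩ := hy
    exact ⟨a • x, GrInj18.smul_mem_add 𝒜 𝒳 ha hx, map_smul e a x⟩

section Hom

variable {N : Type u} [AddCommGroup N] [Module R N] (𝒩 : ι → AddSubgroup N) [Decomposition 𝒩]
  [SetLike.GradedSMul 𝒜 𝒩]
  {M : Type u} [AddCommGroup M] [Module R M] (ℳ : ι → AddSubgroup M) [Decomposition ℳ]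
  [SetLike.GradedSMul 𝒜 ℳ]

/-- the maps of a given degree -/
def homGr (d : ι) : AddSubgroup (N →ₗ[R] M) where
  carrier := {f | IsGrHomDeg 𝒩 ℳ f d}
  zero_mem' _ _ _ := zero_mem _
  add_mem' hf hg i m hm := add_mem (hf i m hm) (hg i m hm)
  neg_mem' hf i m hm := neg_mem (hf i m hm)

variable (𝒜) in
include 𝒜 in
lemma homGr_isInternal [Module.Finite R N] : IsInternal (homGr (R := R) 𝒩 ℳ) := by
  let c : ι → (N →ₗ[R] M) →+ (N →ₗ[R] M) := fun d =>
    AddMonoidHom.mk' (GrInj18.degPart 𝒜 𝒩 ℳ d) fun f g =>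
      GrInj18.eq_of_eqOn_pieces 𝒩 fun j x hx => by
        simp [GrInj18.degPart_of_mem 𝒜 𝒩 ℳ d _ hx]
  refine GrInj18.isInternal_of_proj _ c (fun d f => GrInj18.isGrHomDeg_degPart 𝒜 𝒩 ℳ d f)
    (fun f => GrInj18.exists_sum_degPart 𝒜 𝒩 ℳ f)
    (fun d f hf => GrInj18.eq_of_eqOn_pieces 𝒩 fun j x hx => ?_)
    fun d d' f hf hne => GrInj18.eq_of_eqOn_pieces 𝒩 fun j x hx => ?_
  · exact (GrInj18.degPart_of_mem 𝒜 𝒩 ℳ d f hx).trans (GrInj18.cmp_of_mem ℳ (hf j x hx))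
  · exact (GrInj18.degPart_of_mem 𝒜 𝒩 ℳ d' f hx).trans
      (GrInj18.cmp_of_ne ℳ (hf j x hx) fun h => hne (add_left_cancel h))

omit [Decomposition 𝒩] [Decomposition ℳ] [SetLike.GradedSMul 𝒜 𝒩] in
lemma homGr_gsmul : SetLike.GradedSMul 𝒜 (homGr (R := R) 𝒩 ℳ) := by
  refine ⟨fun {i j} a f ha hf g m hm => ?_⟩
  have h := GrInj18.smul_mem_add 𝒜 ℳ ha (hf g m hm)
  change a • f m ∈ ℳ (g + (i + j))
  rwa [show g + (i + j) = i + (g + j) by abel]

include 𝒩 ℳ in
lemma gradable_hom [Module.Finite R N] : Gradable 𝒜 (N →ₗ[R] M) :=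
  ⟨homGr 𝒩 ℳ, homGr_isInternal 𝒜 𝒩 ℳ, homGr_gsmul 𝒩 ℳ⟩

variable {F : Type u} [AddCommGroup F] [Module R F] (ℱ : ι → AddSubgroup F) [Decomposition ℱ]
  [SetLike.GradedSMul 𝒜 ℱ]

include ℳ in
/-- the cokernel of the restriction along a homogeneous map -/
lemma gradable_coker_lcomp [Module.Finite R N] [Module.Finite R F] {f : N →ₗ[R] F}
    (hf : IsGrHom 𝒩 ℱ f) :
    Gradable 𝒜 ((N →ₗ[R] M) ⧸ LinearMap.range (LinearMap.lcomp R M f)) := by
  let : Decomposition (homGr (R := R) 𝒩 ℳ) := (homGr_isInternal 𝒜 𝒩 ℳ).chooseDecomposition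
  have := homGr_gsmul (𝒜 := 𝒜) 𝒩 ℳ
  let : Decomposition (homGr (R := R) ℱ ℳ) := (homGr_isInternal 𝒜 ℱ ℳ).chooseDecomposition
  have hv : IsGrHom (homGr ℱ ℳ) (homGr 𝒩 ℳ) (LinearMap.lcomp R M f) :=
    fun d h hh g m hm => hh g _ (hf g m hm)
  have hP := GrInj18.isHomogeneous_range (homGr ℱ ℳ) (homGr 𝒩 ℳ) hv
  let Q := GrInj18.gquot 𝒜 (homGr 𝒩 ℳ) hP
  exact ⟨_, GrInj18.quotPieces_isInternal (homGr 𝒩 ℳ) hP, Q.gsmul⟩

end Hom

variable (𝒜) in
/-- Ext out of a finite graded module into a graded module is gradable -/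
theorem gradable_ext [IsNoetherianRing R] {M : Type u} [AddCommGroup M] [Module R M]
    (ℳ : ι → AddSubgroup M) [Decomposition ℳ] [SetLike.GradedSMul 𝒜 ℳ] (i : ℕ) :
    ∀ (A : GMod.{u} 𝒜) [Module.Finite R A.carrier],
      Gradable 𝒜 (LC16.CanonDual.EK (R := R) M A.carrier i) := by
  induction i with
  | zero =>
    intro A _
    exact Gradable.of_equiv (LC16.CanonDual.hom0 M A.carrier) (gradable_hom A.gr ℳ)
  | succ i ih =>
    intro A _
    obtain ⟨k, deg, π, hπ, hsurj⟩ := GrInj18.exists_free_cover 𝒜 A.gr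
    have hK := GrInj18.isHomogeneous_ker (GrInj18.freeGr 𝒜 deg) A.gr hπ
    let K := GrInj18.gsub 𝒜 (GrInj18.freeGr 𝒜 deg) hK
    have : Module.Finite R K.carrier := inferInstanceAs (Module.Finite R (LinearMap.ker π))
    have hex := LinearMap.exact_subtype_ker_map π
    have hι := (LinearMap.ker π).injective_subtype
    have hsδ : Function.Surjective (LC16.CanonDual.delta M hι hex hsurj i) :=
      LC16.CanonDual.delta_surjective M hι hex hsurj i
    rcases i with _ | i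
    · let : Decomposition (GrInj18.subGr (GrInj18.freeGr 𝒜 deg) (LinearMap.ker π)) := K.dec
      let δ : ((LinearMap.ker π) →ₗ[R] M) →ₗ[R] LC16.CanonDual.EK (R := R) M A.carrier 1 :=
        LC16.CanonDual.delta M hι hex hsurj 0 ∘ₗ
          (LC16.CanonDual.hom0 M (LinearMap.ker π)).toLinearMap
      have hδ : Function.Surjective δ := hsδ.comp (LinearEquiv.surjective _)
      have hker : LinearMap.ker δ =
          LinearMap.range (LinearMap.lcomp R M (LinearMap.ker π).subtype) := by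
        ext g
        exact LC16.CanonDual.delta_hom0_eq_zero M hι hex hsurj g
      exact Gradable.of_equiv
        (Submodule.quotEquivOfEq _ _ hker.symm ≪≫ₗ δ.quotKerEquivOfSurjective hδ)
        (gradable_coker_lcomp (GrInj18.subGr (GrInj18.freeGr 𝒜 deg) (LinearMap.ker π)) ℳ
          (GrInj18.freeGr 𝒜 deg) (GrInj18.isGrHom_subtype _ _))
    · exact Gradable.of_equiv (LinearEquiv.ofBijective (LC16.CanonDual.delta M hι hex hsurj (i + 1))
        ⟨LC16.CanonDual.delta_injective M hι hex hsurj i, hsδ⟩) (ih K)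

end Groth.Agent.GrMod19.Bass
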