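import Groth.Agent.GrMod19.Bass.Step
import Groth.Agent.GrRing54.Free
import Groth.Agent.EGA4Alg4.HomDim
import Mathlib.Algebra.Category.ModuleCat.Injective

/-!
Ordinary injective dimension of an injective object of the graded category.
-/

universe u

open DirectSum CategoryTheory
open Groth.Agent.LC16

namespace Groth.Agent.GrMod19.Bass

set_option autoImplicit false

variable {R : Type u} [CommRing R] {M : Type u} [AddCommGroup M] [Module R M]

/-- restriction along the first map is injective when Ext of the cokernel vanishes -/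
lemma eq_zero_of_precomp {A B C : Type u} [AddCommGroup A] [Module R A] [AddCommGroup B] [Module R B]
    [AddCommGroup C] [Module R C] {f : A →ₗ[R] B} {g : B →ₗ[R] C} (hf : Function.Injective f)
    (hex : Function.Exact f g) (hg : Function.Surjective g) {i : ℕ}
    (hC : Subsingleton (CanonDual.EK (R := R) M C i)) (x : CanonDual.EK (R := R) M B i)
    (hx : (Abelian.Ext.mk₀ (ModuleCat.ofHom f)).comp x (zero_add i) = 0) : x = 0 := by
  obtain ⟨y, rfl⟩ := Abelian.Ext.contravariant_sequence_exact₂ (LC15.seqSC_shortExact hf hex hg)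
    (ModuleCat.of R M) x hx
  rw [hC.elim y 0, Abelian.Ext.comp_zero]

lemma exact_mul_factor (I : Ideal R) (a : R) {A : Type u} [AddCommGroup A] [Module R A]
    (f : A →ₗ[R] R ⧸ I)
    (hf : LinearMap.range f = LinearMap.range (Submodule.mkQ I ∘ₗ LinearMap.lsmul R R a)) :
    Function.Exact f (Submodule.factor (le_sup_left : I ≤ I ⊔ Ideal.span {a})) := by
  rw [LinearMap.exact_iff, hf]
  ext x
  obtain ⟨r, rfl⟩ := Submodule.Quotient.mk_surjective _ x
  rw [LinearMap.mem_ker]
  change Submodule.Quotient.mk r = 0 ↔ _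
  rw [Submodule.Quotient.mk_eq_zero, Submodule.mem_sup]
  constructor
  · rintro ⟨y, hy, z, hz, rfl⟩
    obtain ⟨c, rfl⟩ := Ideal.mem_span_singleton'.1 hz
    exact ⟨c, (Submodule.Quotient.eq I).2 (by simpa [mul_comm] using neg_mem hy)⟩
  · rintro ⟨c, hc⟩
    have h := (Submodule.Quotient.eq I).1 hc
    exact ⟨r - a * c, by simpa using neg_mem h, a * c,
      Ideal.mul_mem_right c _ (Ideal.mem_span_singleton_self a), by ring⟩

variable [IsNoetherianRing R]

/-- Bass numbers as lengths of localised Ext -/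
theorem bassNum_eq_length (P : Ideal R) [P.IsPrime] (M : Type u) [AddCommGroup M] [Module R M]
    (i : ℕ) : GrLC.bassNum P M i = Module.length (Localization.AtPrime P)
      (LocalizedModule P.primeCompl (CanonDual.EK (R := R) M (R ⧸ P) i)) := by
  obtain ⟨e1⟩ := ExtLocal.nonempty_equiv P.primeCompl M i (R ⧸ P)
  obtain ⟨e2⟩ := nonempty_quot_equiv P P le_rfl
  exact (e1 ≪≫ₗ CanonLocal.extCongr
    (e2 ≪≫ₗ Submodule.quotEquivOfEq _ _ Localization.AtPrime.map_eq_maximalIdeal)
    (LinearEquiv.refl _ _) i).length_eq.symm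

theorem bassNum_eq_zero_iff (P : Ideal R) [P.IsPrime] (M : Type u) [AddCommGroup M] [Module R M]
    (i : ℕ) : GrLC.bassNum P M i = 0 ↔
      ∀ x : CanonDual.EK (R := R) M (R ⧸ P) i, ∃ v ∉ P, v • x = 0 := by
  rw [bassNum_eq_length, Module.length_eq_zero_iff, LocalizedModule.subsingleton_iff]
  rfl

/-- vanishing of all the relevant Bass numbers kills Ext out of cyclic modules -/
theorem subsingleton_ext_cyclic (i : ℕ)
    (h : ∀ (P : Ideal R) [P.IsPrime], GrLC.bassNum P M i = 0) (I : Ideal R) :
    Subsingleton (CanonDual.EK (R := R) M (R ⧸ I) i) := by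
  induction I using WellFoundedGT.induction with
  | ind I ih =>
    refine subsingleton_of_forall_eq 0 fun x => ?_
    by_cases hI : Ideal.IsPrime I
    · obtain ⟨v, hv, hvx⟩ := (bassNum_eq_zero_iff I M i).1 (h I) x
      refine eq_zero_of_precomp (f := LinearMap.lsmul R (R ⧸ I) v) ?_
        (exact_mul_factor I v _ ?_) (Submodule.factor_surjective _)
        (ih _ (left_lt_sup.2 fun hle => hv (hle (Ideal.mem_span_singleton_self v)))) x
        (by rw [precomp_smul, hvx])
      · refine (injective_iff_map_eq_zero _).2 fun y hy => ?_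
        obtain ⟨r, rfl⟩ := Submodule.Quotient.mk_surjective _ y
        exact (Submodule.Quotient.mk_eq_zero _).2
          ((hI.mem_or_mem ((Submodule.Quotient.mk_eq_zero _).1 hy)).resolve_left hv)
      · ext y
        constructor
        · rintro ⟨z, rfl⟩
          obtain ⟨r, rfl⟩ := Submodule.Quotient.mk_surjective _ z
          exact ⟨r, rfl⟩
        · rintro ⟨r, rfl⟩
          exact ⟨Submodule.Quotient.mk r, rfl⟩
    · by_cases htop : I = ⊤
      · have : Subsingleton (R ⧸ I) := Submodule.Quotient.subsingleton_iff.2 htop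
        rw [← x.mk₀_id_comp, show 𝟙 (ModuleCat.of R (R ⧸ I)) = 0 from
          (ModuleCat.isZero_of_subsingleton _).eq_of_src _ _, Abelian.Ext.mk₀_zero,
          Abelian.Ext.zero_comp]
      rw [Ideal.isPrime_iff] at hI
      push Not at hI
      obtain ⟨a, b, hab, ha, hb⟩ := hI htop
      let φ := Submodule.mkQ I ∘ₗ LinearMap.lsmul R R a
      let f := Submodule.liftQ (LinearMap.ker φ) φ le_rfl
      have hJ : I < LinearMap.ker φ := lt_of_le_not_ge
        (fun r hr => (Submodule.Quotient.mk_eq_zero I).2 (I.mul_mem_left a hr))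
        fun hle => hb (hle ((Submodule.Quotient.mk_eq_zero I).2 hab))
      refine eq_zero_of_precomp (f := f) ?_ (exact_mul_factor I a f (Submodule.range_liftQ _ _ _))
        (Submodule.factor_surjective _)
        (ih _ (left_lt_sup.2 fun hle => ha (hle (Ideal.mem_span_singleton_self a)))) x
        ((ih _ hJ).elim _ _)
      exact LinearMap.ker_eq_bot.1 (Submodule.ker_liftQ_eq_bot _ _ _ le_rfl)

/-- associated primes through the zeroth Bass number -/
theorem bassNum_zero_ne_zero_iff (P : Ideal R) [P.IsPrime] :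
    GrLC.bassNum P M 0 ≠ 0 ↔ P ∈ associatedPrimes R M := by
  rw [Ne, bassNum_eq_zero_iff]
  constructor
  · intro h
    push Not at h
    obtain ⟨x, hx⟩ := h
    obtain ⟨φ, rfl⟩ := (CanonDual.hom0 M (R ⧸ P)).surjective x
    refine isAssociatedPrime_iff.2 ⟨‹_›, φ (Submodule.Quotient.mk 1), ?_⟩
    ext r
    rw [Submodule.mem_colon_singleton, Submodule.mem_bot, ← map_smul]
    constructor
    · intro hr
      rw [← Submodule.Quotient.mk_smul, (Submodule.Quotient.mk_eq_zero P).2 (by simpa using hr),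
        map_zero]
    · intro hr
      by_contra hrP
      refine hx r hrP ?_
      rw [← map_smul, LinearEquiv.map_eq_zero_iff]
      refine Submodule.linearMap_qext _ (LinearMap.ext_ring ?_)
      simpa using hr
  · intro h hall
    obtain ⟨-, x, hx⟩ := isAssociatedPrime_iff.1 h
    let φ : (R ⧸ P) →ₗ[R] M := Submodule.liftQ P (LinearMap.toSpanSingleton R M x) fun r hr => by
      rw [hx, Submodule.mem_colon_singleton, Submodule.mem_bot] at hr
      exact hr
    obtain ⟨v, hv, hv'⟩ := hall (CanonDual.hom0 M (R ⧸ P) φ)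
    rw [← map_smul, LinearEquiv.map_eq_zero_iff] at hv'
    refine hv ?_
    rw [hx, Submodule.mem_colon_singleton, Submodule.mem_bot]
    have h1 := LinearMap.congr_fun hv' (Submodule.Quotient.mk 1)
    rwa [LinearMap.smul_apply, Submodule.liftQ_apply, LinearMap.toSpanSingleton_apply, one_smul,
      LinearMap.zero_apply] at h1

end Groth.Agent.GrMod19.Bass

namespace Groth.Agent.GrMod19.Bass

variable {R : Type u} [CommRing R] [IsNoetherianRing R] {ι : Type} [AddCommGroup ι] [DecidableEq ι]
  (𝒜 : ι → AddSubgroup R) [GradedRing 𝒜] {M : Type u} [AddCommGroup M] [Module R M]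
  (ℳ : ι → AddSubgroup M) [Decomposition ℳ] [SetLike.GradedSMul 𝒜 ℳ]

include ℳ in
/-- graded primes see no higher Ext into a *injective -/
theorem bass_succ_eq_zero (hM : GrLC.IsStarInj 𝒜 ℳ) (P : Ideal R) [P.IsPrime]
    (hP : P.IsHomogeneous 𝒜) (i : ℕ) : GrLC.bassNum P M (i + 1) = 0 := by
  let A := GrInj18.gquot 𝒜 𝒜 (P := (P : Submodule R R)) (fun j _ hx => hP j hx)
  have : Module.Finite R A.carrier := inferInstanceAs (Module.Finite R (R ⧸ P))
  have := GrInj18.subsingleton_ext_of_isStarInj 𝒜 ℳ hM i A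
  rw [bassNum_eq_zero_iff]
  exact fun x => ⟨1, (‹P.IsPrime›).one_notMem, by
    rw [one_smul]; exact this.elim x 0⟩

variable (𝒜' : ℤ → AddSubgroup R) [GradedRing 𝒜'] (ℳ' : ℤ → AddSubgroup M) [Decomposition ℳ']
  [SetLike.GradedSMul 𝒜' ℳ']

include ℳ' in
/-- no second Ext into a *injective -/
theorem hasInjectiveDimensionLT_two (hM : GrLC.IsStarInj 𝒜' ℳ') :
    HasInjectiveDimensionLT (ModuleCat.of R M) 2 :=
  EGA4Alg4.hasInjectiveDimensionLT_of_ext_cyclic 1 _ fun I => subsingleton_ext_cyclic 2 (fun P _ => by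
    by_cases hP : P.IsHomogeneous 𝒜'
    · exact bass_succ_eq_zero 𝒜' ℳ' hM P hP 1
    · have := GrRing54.isPrime_homogeneousCore (𝒜 := 𝒜') P
      rw [(bass_step 𝒜' ℳ' P hP).2 1]
      exact bass_succ_eq_zero 𝒜' ℳ' hM _ (P.homogeneousCore 𝒜').isHomogeneous 0) I

include ℳ' in
/-- the criterion for ordinary injectivity -/
theorem injective_iff (hM : GrLC.IsStarInj 𝒜' ℳ') :
    Module.Injective R M ↔ ∀ P : Ideal R, P.IsPrime → ¬ P.IsHomogeneous 𝒜' →
      (P.homogeneousCore 𝒜').toIdeal ∉ associatedPrimes R M := by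
  constructor
  · intro hinj P _ hP hass
    have := GrRing54.isPrime_homogeneousCore (𝒜 := 𝒜') P
    have : Injective (ModuleCat.of R M) := (Module.injective_iff_injective_object R M).1 hinj
    refine (bassNum_zero_ne_zero_iff _).2 hass ?_
    rw [← (bass_step 𝒜' ℳ' P hP).2 0, bassNum_eq_zero_iff]
    exact fun x => ⟨1, (‹P.IsPrime›).one_notMem, by rw [one_smul, x.eq_zero_of_injective]⟩
  · intro h
    refine (Module.injective_iff_injective_object R M).2 (injective_iff_hasInjectiveDimensionLT_one.2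
      (EGA4Alg4.hasInjectiveDimensionLT_of_ext_cyclic 0 _
        (subsingleton_ext_cyclic 1 fun P _ => ?_)))
    by_cases hP : P.IsHomogeneous 𝒜'
    · exact bass_succ_eq_zero 𝒜' ℳ' hM P hP 0
    · have := GrRing54.isPrime_homogeneousCore (𝒜 := 𝒜') P
      rw [(bass_step 𝒜' ℳ' P hP).2 0]
      exact Classical.not_not.1 fun hne => h P ‹_› hP ((bassNum_zero_ne_zero_iff _).1 hne)

end Groth.Agent.GrMod19.Bass
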