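import Groth.Agent.GrInj18.Basic
import Mathlib.RingTheory.Localization.AtPrime.Basic
import Mathlib.RingTheory.Localization.Integer
import Mathlib.RingTheory.Length
import Mathlib.Algebra.Module.LocalizedModule.Basic
import Mathlib.Order.Zorn

/-!
A graded module killed by a graded prime `q` is generically free over `R/q` at every prime
whose homogeneous elements lie in `q`.
-/

universe u

open DirectSum

namespace Groth.Agent.GrMod19.Bass

set_option autoImplicit false

variable {R : Type u} [CommRing R] {X : Type u} [AddCommGroup X] [Module R X]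

/-- relations with coefficients outside `q` only hold trivially -/
def IndepAt (q : Ideal R) (s : Set X) : Prop :=
  ∀ c : X →₀ R, ↑c.support ⊆ s → ∀ v ∉ q, v • Finsupp.linearCombination R id c = 0 → ∀ j, c j ∈ q

section family

variable {ι : Type} [AddCommGroup ι] [DecidableEq ι] (𝒜 : ι → AddSubgroup R) [GradedRing 𝒜]
  (𝒳 : ι → AddSubgroup X) [Decomposition 𝒳] [SetLike.GradedSMul 𝒜 𝒳]

include 𝒜 𝒳 in
/-- homogeneous generic basis -/
theorem exists_family (q p : Ideal R) [q.IsPrime] [p.IsPrime]
    (hq : ∀ (i : ι) (a : R), a ∈ 𝒜 i → a ∈ p → a ∈ q) (hX : ∀ a ∈ q, ∀ x : X, a • x = 0) :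
    ∃ s : Set X, IndepAt q s ∧ ∀ y : X, ∃ v ∉ p, v • y ∈ Submodule.span R s := by
  classical
  let S : Set (Set X) := {s | (∀ x ∈ s, ∃ e, x ∈ 𝒳 e) ∧ IndepAt q s}
  obtain ⟨s, ⟨hsh, hsi⟩, hmax⟩ : ∃ s, Maximal (· ∈ S) s := by
    refine zorn_subset S fun C hC hchain => ?_
    refine ⟨⋃₀ C, ⟨fun x ⟨t, ht, hx⟩ => (hC ht).1 x hx, fun c hc v hv h => ?_⟩,
      fun t ht => Set.subset_sUnion_of_mem ht⟩
    rcases C.eq_empty_or_nonempty with rfl | hne
    · intro j
      by_cases hj : j ∈ c.support
      · simpa using hc hj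
      · rw [Finsupp.notMem_support_iff.1 hj]; exact zero_mem q
    · obtain ⟨t, ht, hsub⟩ := hchain.directedOn.exists_mem_subset_of_finset_subset_biUnion hne
        (f := id) (s := c.support) (by simpa [Set.sUnion_eq_biUnion] using hc)
      exact (hC ht).2 c hsub v hv h
  refine ⟨s, hsi, fun y => ?_⟩
  have hspan : (Submodule.span R s).IsHomogeneous 𝒳 := GrInj18.isHomogeneous_span 𝒳 𝒜 hsh
  induction y using GrInj18.piece_induction 𝒳 with
  | h0 => exact ⟨1, (‹p.IsPrime›).one_notMem, by simp⟩
  | hadd a b ha hb =>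
    obtain ⟨v, hv, hva⟩ := ha
    obtain ⟨w, hw, hwb⟩ := hb
    refine ⟨v * w, fun h => ((‹p.IsPrime›).mem_or_mem h).elim hv hw, ?_⟩
    rw [smul_add]
    refine add_mem ?_ ?_
    · rw [mul_comm, mul_smul]; exact Submodule.smul_mem _ w hva
    · rw [mul_smul]; exact Submodule.smul_mem _ v hwb
  | hp d y hy =>
    by_cases hys : y ∈ s
    · exact ⟨1, (‹p.IsPrime›).one_notMem, by simpa using Submodule.subset_span hys⟩
    have hni : ¬ IndepAt q (insert y s) := fun hi =>
      hys (hmax ⟨fun x hx => hx.elim (fun h => ⟨d, h ▸ hy⟩) (hsh x), hi⟩ (Set.subset_insert y s)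
        (Set.mem_insert y s))
    simp only [IndepAt] at hni
    push Not at hni
    obtain ⟨c, hc, v, hv, hrel, j, hj⟩ := hni
    have hce : ↑(c.erase y).support ⊆ s := fun x hx => by
      rw [Finsupp.support_erase, Finset.coe_erase] at hx
      exact (hc hx.1).resolve_left hx.2
    have hsplit : Finsupp.linearCombination R id c =
        Finsupp.linearCombination R id (c.erase y) + c y • y := by
      conv_lhs => rw [← c.erase_add_single y]
      rw [map_add, Finsupp.linearCombination_single, id_eq]
    have hcy : c y ∉ q := fun h => by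
      rw [hsplit, hX _ h y, add_zero] at hrel
      have hje := hsi _ hce v hv hrel j
      by_cases hjy : j = y
      · exact hj (hjy ▸ h)
      · exact hj (by rwa [Finsupp.erase_ne hjy] at hje)
    rw [hsplit, smul_add, add_eq_zero_iff_eq_neg'] at hrel
    have hu : (v * c y) • y ∈ Submodule.span R s := by
      rw [mul_smul, hrel]
      refine neg_mem (Submodule.smul_mem _ v ?_)
      rw [Finsupp.linearCombination_apply]
      exact sum_mem fun x hx => Submodule.smul_mem _ _ (Submodule.subset_span (hce hx))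
    have hvq : v * c y ∉ q := fun h => ((‹q.IsPrime›).mem_or_mem h).elim hv hcy
    obtain ⟨e, he⟩ : ∃ e, GrInj18.cmp 𝒜 e (v * c y) ∉ q := by
      by_contra! h
      obtain ⟨t, ht⟩ := GrInj18.exists_sum_cmp 𝒜 (v * c y)
      exact hvq (ht ▸ sum_mem fun e _ => h e)
    refine ⟨_, fun h => he (hq e _ (GrInj18.cmp_mem 𝒜 e _) h), ?_⟩
    have := GrInj18.cmp_mem_of_isHomogeneous 𝒳 hspan (e + d) hu
    rwa [GrInj18.cmp_smul_homog_right 𝒜 𝒳 (e + d) hy, add_sub_cancel_right] at this

end family

/-- with a generic basis, the localisation is free over the localised quotient -/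
theorem nonempty_finsupp_equiv {q P : Ideal R} [P.IsPrime] (hqP : q ≤ P)
    (hX : ∀ a ∈ q, ∀ x : X, a • x = 0) {s : Set X} (hind : IndepAt q s)
    (hspan : ∀ y : X, ∃ v ∉ P, v • y ∈ Submodule.span R s) :
    Nonempty ((s →₀ (Localization.AtPrime P ⧸ q.map (algebraMap R (Localization.AtPrime P))))
      ≃ₗ[Localization.AtPrime P] LocalizedModule P.primeCompl X) := by
  classical
  let Rp := Localization.AtPrime P
  let Xp := LocalizedModule P.primeCompl X
  let mkX := LocalizedModule.mkLinearMap P.primeCompl X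
  let I : Ideal Rp := q.map (algebraMap R Rp)
  let g : s → (Rp ⧸ I) →ₗ[Rp] Xp := fun j =>
    Submodule.liftQ I (LinearMap.toSpanSingleton Rp Xp (mkX j)) (by
      refine Ideal.map_le_iff_le_comap.2 fun a ha => ?_
      change algebraMap R Rp a • mkX j = 0
      rw [algebraMap_smul, ← map_smul, hX a ha, map_zero])
  let Φ : (s →₀ Rp ⧸ I) →ₗ[Rp] Xp := Finsupp.lsum ℕ g
  have hg : ∀ (j : s) (r : Rp), Φ (Finsupp.single j (Submodule.Quotient.mk r)) = r • mkX j :=
    fun j r => (Finsupp.lsum_single ℕ g j _).trans rfl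
  refine ⟨LinearEquiv.ofBijective Φ ⟨(injective_iff_map_eq_zero Φ).2 fun z hz => ?_, ?_⟩⟩
  · choose r hr using fun j => Ideal.Quotient.mk_surjective (I := I) (z j)
    obtain ⟨b, hb⟩ := IsLocalization.exist_integer_multiples P.primeCompl z.support r
    choose! ρ hρ using hb
    have hu : IsUnit (algebraMap R Rp (b : R)) := IsLocalization.map_units _ b
    refine hu.smul_eq_zero.1 ?_
    let c : X →₀ R := ∑ j ∈ z.support, Finsupp.single (j : X) (ρ j)
    have hz' : algebraMap R Rp (b : R) • z =
        ∑ j ∈ z.support, Finsupp.single j (Submodule.Quotient.mk (algebraMap R Rp (ρ j))) := by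
      conv_lhs => rw [← z.sum_single, Finsupp.sum, Finset.smul_sum]
      refine Finset.sum_congr rfl fun j hj => ?_
      rw [Finsupp.smul_single, ← hr j, hρ j hj, algebraMap_smul]
      rfl
    have hc : ↑c.support ⊆ s := fun x hx => by
      obtain ⟨j, -, hj⟩ := Finset.mem_biUnion.1 (Finsupp.support_finsetSum hx)
      rw [Finset.mem_singleton.1 (Finsupp.support_single_subset hj)]
      exact j.2
    have hlc : mkX (Finsupp.linearCombination R id c) = 0 := by
      have h0 : Φ (algebraMap R Rp (b : R) • z) = 0 := by rw [map_smul, hz, smul_zero]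
      rw [hz', map_sum] at h0
      simp only [hg, algebraMap_smul] at h0
      rw [map_sum, map_sum, ← h0]
      refine Finset.sum_congr rfl fun j _ => ?_
      rw [Finsupp.linearCombination_single, id_eq, map_smul]
    obtain ⟨v, hv, hv'⟩ := LocalizedModule.mem_ker_mkLinearMap_iff.1 (LinearMap.mem_ker.2 hlc)
    have hq : ∀ j, c j ∈ q := hind c hc v (fun h => hv (hqP h)) hv'
    rw [hz']
    refine Finset.sum_eq_zero fun j hj => ?_
    have hcj : c j = ρ j := by
      rw [Finsupp.finsetSum_apply, Finset.sum_eq_single_of_mem j hj fun i _ hij =>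
        Finsupp.single_eq_of_ne fun h => hij (Subtype.ext h.symm), Finsupp.single_eq_same]
    rw [(Submodule.Quotient.mk_eq_zero I).2 (Ideal.mem_map_of_mem _ (hcj ▸ hq j)),
      Finsupp.single_zero]
  · intro y
    induction y using LocalizedModule.induction_on with
    | h m t =>
    obtain ⟨v, hv, hvm⟩ := hspan m
    have hle : Submodule.span R s ≤ ((LinearMap.range Φ).restrictScalars R).comap mkX :=
      Submodule.span_le.2 fun x hx => ⟨Finsupp.single ⟨x, hx⟩ (Submodule.Quotient.mk 1), by
        rw [hg, one_smul]⟩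
    obtain ⟨z, hz⟩ := hle hvm
    have hu : IsUnit (algebraMap R Rp (v * t)) :=
      IsLocalization.map_units Rp (⟨v, hv⟩ * t : P.primeCompl)
    refine ⟨(↑hu.unit⁻¹ : Rp) • z, ?_⟩
    rw [map_smul, hz]
    refine hu.smul_left_cancel.1 ?_
    rw [smul_smul, IsUnit.mul_val_inv, one_smul, algebraMap_smul]
    simp only [mkX, LocalizedModule.mkLinearMap_apply]
    rw [LocalizedModule.smul'_mk, mul_comm, mul_smul, ← Submonoid.smul_def,
      LocalizedModule.mk_cancel]

end Groth.Agent.GrMod19.Bass
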