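import Groth.Agent.LC16.ExtLocal
import Groth.Agent.LC16.CanonLocal
import Groth.Agent.LC15.ExtDepth
import Groth.Prelude.Def_GrLC2

/-!
Bass numbers of a local ring whose maximal ideal is principal over a prime, given freeness of Ext.
-/

universe u

open CategoryTheory IsLocalRing
open Groth.Agent.LC16

namespace Groth.Agent.GrMod19.Bass

set_option autoImplicit false

variable {A : Type u} [CommRing A] [IsLocalRing A] (M : Type u) [AddCommGroup M] [Module A M]

omit [IsLocalRing A] in
lemma precomp_smul {N : Type u} [AddCommGroup N] [Module A N] (a : A) {i : ℕ}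
    (y : CanonDual.EK (R := A) M N i) :
    (Abelian.Ext.mk₀ (ModuleCat.ofHom (LinearMap.lsmul A N a))).comp y (zero_add i) = a • y := by
  rw [show ModuleCat.ofHom (LinearMap.lsmul A N a) = a • 𝟙 (ModuleCat.of A N) from
    ModuleCat.hom_ext (LinearMap.ext fun _ => rfl), Abelian.Ext.mk₀_smul, Abelian.Ext.smul_comp,
    Abelian.Ext.mk₀_id_comp]

lemma length_finsupp_residue (Λ : Type u) :
    Module.length A (Λ →₀ A ⧸ maximalIdeal A) = ENat.card Λ := by
  have : IsSimpleModule A (A ⧸ maximalIdeal A) :=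
    isSimpleModule_iff_isCoatom.2 (maximalIdeal.isMaximal A).out
  rw [Module.length_finsupp, Module.length_eq_one, mul_one]

lemma bassNumLocal_eq_length (i : ℕ) :
    GrLC.bassNumLocal A M i =
      Module.length A (CanonDual.EK (R := A) M (A ⧸ maximalIdeal A) i) := rfl

/-- if Ext out of the residue field is free then its rank is the Bass number -/
theorem bass_eq_card {i : ℕ} {Λ : Type u}
    (e : (Λ →₀ A ⧸ maximalIdeal A) ≃ₗ[A] CanonDual.EK (R := A) M (A ⧸ maximalIdeal A) i) :
    GrLC.bassNumLocal A M i = ENat.card Λ := by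
  rw [bassNumLocal_eq_length, ← e.length_eq, length_finsupp_residue]

/-- the shift by one -/
theorem bass_shift {J : Ideal A} (a : A) (hmax : maximalIdeal A = J ⊔ Ideal.span {a})
    (haJ : ∀ x, a * x ∈ J → x ∈ J) (Λ : ℕ → Type u)
    (e : ∀ i, (Λ i →₀ A ⧸ J) ≃ₗ[A] CanonDual.EK (R := A) M (A ⧸ J) i) :
    GrLC.bassNumLocal A M 0 = 0 ∧
      ∀ i, GrLC.bassNumLocal A M (i + 1) = ENat.card (Λ i) := by
  classical
  let k := A ⧸ maximalIdeal A
  let ι : (A ⧸ J) →ₗ[A] A ⧸ J := LinearMap.lsmul A (A ⧸ J) a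
  let π : (A ⧸ J) →ₗ[A] k := Submodule.factor (show J ≤ maximalIdeal A by rw [hmax]; exact le_sup_left)
  have hι : Function.Injective ι := (injective_iff_map_eq_zero _).2 fun x hx => by
    obtain ⟨r, rfl⟩ := Ideal.Quotient.mk_surjective x
    exact Ideal.Quotient.eq_zero_iff_mem.2 (haJ r (Ideal.Quotient.eq_zero_iff_mem.1 hx))
  have hπ : Function.Surjective π := Submodule.factor_surjective _
  have hπ0 : ∀ x, π (a • x) = 0 := fun x => by
    obtain ⟨r, rfl⟩ := Ideal.Quotient.mk_surjective x
    refine Ideal.Quotient.eq_zero_iff_mem.2 (?_ : a * r ∈ maximalIdeal A)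
    rw [hmax]
    exact Ideal.mul_mem_right r _ (Ideal.mem_sup_right (Ideal.mem_span_singleton_self a))
  have hker : ∀ x, π x = 0 → ∃ y, a • y = x := fun x hx => by
    obtain ⟨r, rfl⟩ := Ideal.Quotient.mk_surjective x
    have hr : r ∈ maximalIdeal A := Ideal.Quotient.eq_zero_iff_mem.1 hx
    rw [hmax] at hr
    obtain ⟨j, hj, z, hz, rfl⟩ := Submodule.mem_sup.1 hr
    obtain ⟨c, rfl⟩ := Ideal.mem_span_singleton'.1 hz
    refine ⟨Ideal.Quotient.mk J c, ?_⟩
    rw [map_add, Ideal.Quotient.eq_zero_iff_mem.2 hj, zero_add, mul_comm]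
    rfl
  have hex : Function.Exact ι π := fun x =>
    ⟨hker x, by rintro ⟨y, rfl⟩; exact hπ0 y⟩
  have hainj : ∀ i (y : CanonDual.EK (R := A) M (A ⧸ J) i), a • y = 0 → y = 0 := fun i y hy => by
    obtain ⟨z, rfl⟩ := (e i).surjective y
    rw [← map_smul, (e i).map_eq_zero_iff] at hy
    rw [(e i).map_eq_zero_iff]
    refine Finsupp.ext fun j => hι ?_
    rw [Finsupp.zero_apply, map_zero]
    exact (Finsupp.smul_apply a z j).symm.trans (DFunLike.congr_fun hy j)
  have hk : ∀ (i : ℕ) (x : CanonDual.EK (R := A) M k i), a • x = 0 := fun i x =>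
    LC15.ext_smul_eq_zero_of_annihilator (fun m => by
      obtain ⟨r, rfl⟩ := Submodule.Quotient.mk_surjective _ m
      exact (Submodule.Quotient.mk_eq_zero _).2 (by
        change a * r ∈ maximalIdeal A
        rw [hmax]
        exact Ideal.mul_mem_right r _ (Ideal.mem_sup_right (Ideal.mem_span_singleton_self a)))) i x
  have hpre : ∀ (i : ℕ) (x : CanonDual.EK (R := A) M k i),
      (Abelian.Ext.mk₀ (ModuleCat.ofHom π)).comp x (zero_add i) = 0 := fun i x =>
    hainj i _ (by rw [← Abelian.Ext.comp_smul, hk, Abelian.Ext.comp_zero])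
  refine ⟨?_, fun i => ?_⟩
  · rw [bassNumLocal_eq_length, Module.length_eq_zero_iff]
    refine subsingleton_of_forall_eq 0 fun x => ?_
    obtain ⟨φ, rfl⟩ := (Abelian.Ext.mk₀_bijective _ _).2 x
    have h := hpre 0 (Abelian.Ext.mk₀ φ)
    rw [Abelian.Ext.mk₀_comp_mk₀, ← Abelian.Ext.mk₀_zero,
      (Abelian.Ext.mk₀_bijective _ _).1.eq_iff] at h
    have : Epi (ModuleCat.ofHom π) := (ModuleCat.epi_iff_surjective _).2 hπ
    rw [Limits.zero_of_epi_comp _ h, Abelian.Ext.mk₀_zero]
  · let δ := CanonDual.delta M hι hex hπ i ∘ₗ (e i).toLinearMap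
    have hδ : Function.Surjective δ := by
      intro x
      obtain ⟨y, hy⟩ := Abelian.Ext.contravariant_sequence_exact₃
        (LC15.seqSC_shortExact hι hex hπ) (ModuleCat.of A M) x (hpre (i + 1) x) (add_comm 1 i)
      exact ⟨(e i).symm y, by simpa [δ, CanonDual.delta] using hy⟩
    let g : (Λ i →₀ A ⧸ J) →ₗ[A] (Λ i →₀ k) := Finsupp.mapRange.linearMap π
    have hg : Function.Surjective g := Finsupp.mapRange_surjective π π.map_zero hπ
    have hgδ : LinearMap.ker δ = LinearMap.ker g := by
      ext z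
      simp only [LinearMap.mem_ker, δ, LinearMap.comp_apply, LinearEquiv.coe_coe]
      rw [CanonDual.delta_eq_zero]
      constructor
      · rintro ⟨y, hy⟩
        obtain ⟨w, rfl⟩ := (e i).surjective y
        rw [precomp_smul, ← map_smul, (e i).injective.eq_iff] at hy
        subst hy
        exact Finsupp.ext fun j => hπ0 (w j)
      · intro hz
        choose w hw using fun j => hker (z j) (DFunLike.congr_fun hz j)
        refine ⟨e i (z.support.sum fun j => Finsupp.single j (w j)), ?_⟩
        rw [precomp_smul, ← map_smul]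
        congr 1
        rw [Finset.smul_sum]
        conv_rhs => rw [← z.sum_single, Finsupp.sum]
        exact Finset.sum_congr rfl fun j _ => by rw [Finsupp.smul_single, hw]
    rw [bassNumLocal_eq_length, ← ((δ.quotKerEquivOfSurjective hδ).symm ≪≫ₗ
      Submodule.quotEquivOfEq _ _ hgδ ≪≫ₗ g.quotKerEquivOfSurjective hg).symm.length_eq]
    exact length_finsupp_residue (A := A) (Λ i)

end Groth.Agent.GrMod19.Bass
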