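import Groth.Agent.GrInj18.Basic
import Mathlib.RingTheory.GradedAlgebra.HomogeneousLocalization
import Mathlib.RingTheory.GradedAlgebra.Radical

/-!
A prime of a ℤ-graded ring is locally principal over its graded core.
-/

universe u

open DirectSum Groth.Agent.GrInj18

namespace Groth.Agent.GrMod19.Bass

set_option autoImplicit false

variable {R : Type u} [CommRing R] (𝒜 : ℤ → AddSubgroup R) [GradedRing 𝒜]

lemma cmp_mem_core {p : Ideal R} {x : R} (hx : x ∈ (p.homogeneousCore 𝒜).toIdeal) (k : ℤ) :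
    cmp 𝒜 k x ∈ (p.homogeneousCore 𝒜).toIdeal :=
  (p.homogeneousCore 𝒜).isHomogeneous k hx

lemma mem_core_of_mem {p : Ideal R} {i : ℤ} {x : R} (hi : x ∈ 𝒜 i) (hx : x ∈ p) :
    x ∈ (p.homogeneousCore 𝒜).toIdeal :=
  Ideal.mem_homogeneousCore_of_homogeneous_of_mem ⟨i, hi⟩ hx

/-- a prime is principal over its core after localisation -/
theorem exists_principal (p : Ideal R) [p.IsPrime] (hp : ¬ p.IsHomogeneous 𝒜)
    [(p.homogeneousCore 𝒜).toIdeal.IsPrime] :
    ∃ f ∈ p, f ∉ (p.homogeneousCore 𝒜).toIdeal ∧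
      ∀ g ∈ p, ∃ v ∉ p, ∃ c : R, v * g - c * f ∈ (p.homogeneousCore 𝒜).toIdeal := by
  classical
  set q := (p.homogeneousCore 𝒜).toIdeal with hq
  have hqp : q ≤ p := Ideal.toIdeal_homogeneousCore_le 𝒜 p
  have hmem : ∀ g, (∀ k, cmp 𝒜 k g ∈ q) → g ∈ q := fun g hg => by
    obtain ⟨t, ht⟩ := exists_sum_cmp 𝒜 g
    exact ht ▸ sum_mem fun k _ => hg k
  let W : R → ℤ → ℤ → Prop := fun g lo hi => ∀ k, cmp 𝒜 k g ∉ q → lo ≤ k ∧ k ≤ hi
  have hW : ∀ g, ∃ (lo : ℤ) (n : ℕ), W g lo (lo + n) := fun g => by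
    obtain ⟨t, -, ht⟩ := cmp_support 𝒜 g
    obtain ⟨lo, hlo⟩ := t.bddBelow
    obtain ⟨hi, hhi⟩ := t.bddAbove
    refine ⟨lo, (hi - lo).toNat, fun k hk => ?_⟩
    have hkt : k ∈ t := by_contra fun h => hk (by rw [ht k h]; exact zero_mem _)
    have := hlo hkt
    have := hhi hkt
    omega
  obtain ⟨x0, hx0, hx0q⟩ : ∃ x, x ∈ p ∧ x ∉ q := by
    by_contra! h
    refine hp ?_
    rw [show p = q from le_antisymm h hqp]
    exact (p.homogeneousCore 𝒜).isHomogeneous
  have hex : ∃ m : ℕ, ∃ f ∈ p, f ∉ q ∧ ∃ a : ℤ, W f a (a + m) := by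
    obtain ⟨lo, n, h⟩ := hW x0
    exact ⟨n, x0, hx0, hx0q, lo, h⟩
  let m := Nat.find hex
  obtain ⟨f, hf, hfq, a, hfr⟩ := Nat.find_spec hex
  change W f a (a + m) at hfr
  have hmin : ∀ g ∈ p, g ∉ q → ∀ (lo : ℤ) (n : ℕ), W g lo (lo + n) → m ≤ n :=
    fun g hg hgq lo n h => Nat.find_min' hex ⟨g, hg, hgq, lo, h⟩
  set b : ℤ := a + m with hb
  set fb := cmp 𝒜 b f with hfb
  have hfbq : fb ∉ q := fun h => by
    rcases Nat.eq_zero_or_pos m with h0 | h0
    · refine hfq (hmem f fun k => by_contra fun hk => ?_)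
      have := hfr k hk
      obtain rfl : k = b := by omega
      exact hk h
    · have := hmin f hf hfq a (m - 1) fun k hk => by
        have := hfr k hk
        have : k ≠ b := fun hkb => hk (hkb ▸ h)
        omega
      omega
  have hfbp : fb ∉ p := fun h => hfbq (mem_core_of_mem 𝒜 (cmp_mem 𝒜 b f) h)
  have hm : m ≠ 0 := fun h0 => hfbp <| by
    have hdiff : f - fb ∈ q := hmem _ fun k => by
      rw [map_sub, hfb, cmp_ite 𝒜 (cmp_mem 𝒜 b f)]
      split_ifs with h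
      · subst h; simp [hfb]
      · rw [sub_zero]
        by_contra hk
        have := hfr k hk
        omega
    simpa using p.sub_mem hf (hqp hdiff)
  refine ⟨f, hf, hfq, ?_⟩
  suffices key : ∀ (n : ℕ), ∀ g ∈ p, ∀ lo : ℤ, W g lo (lo + n) →
      ∃ v ∉ p, ∃ c : R, v * g - c * f ∈ q from fun g hg => by
    obtain ⟨lo, n, h⟩ := hW g
    exact key n g hg lo h
  intro n
  induction n using Nat.strong_induction_on with
  | _ n ih =>
    intro g hg lo hr
    by_cases hgq : g ∈ q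
    · exact ⟨1, (‹p.IsPrime›).one_notMem, 0, by simpa using hgq⟩
    have hnm := hmin g hg hgq lo n hr
    set gc := cmp 𝒜 (lo + n) g with hgc
    have hr' : W (fb * g - gc * f) (lo + b) (lo + b + (n - 1 : ℕ)) := by
      intro k hk
      rw [map_sub, ← smul_eq_mul fb g, ← smul_eq_mul gc f,
        cmp_smul_homog_left 𝒜 𝒜 k (cmp_mem 𝒜 b f), cmp_smul_homog_left 𝒜 𝒜 k (cmp_mem 𝒜 (lo + n) g),
        smul_eq_mul, smul_eq_mul] at hk
      have hkne : k ≠ b + (lo + n) := by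
        rintro rfl
        refine hk ?_
        rw [add_sub_cancel_left, add_sub_cancel_right, ← hfb, ← hgc, mul_comm fb gc, sub_self]
        exact zero_mem q
      by_cases h1 : cmp 𝒜 (k - b) g ∈ q
      · by_cases h2 : cmp 𝒜 (k - (lo + n)) f ∈ q
        · exact absurd (sub_mem (q.mul_mem_left _ h1) (q.mul_mem_left _ h2)) hk
        · have := hfr _ h2; omega
      · have := hr _ h1; omega
    obtain ⟨v, hv, c, hc⟩ := ih (n - 1) (by omega) _
      (p.sub_mem (p.mul_mem_left fb hg) (p.mul_mem_left gc hf)) _ hr'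
    refine ⟨v * fb, fun h => ((‹p.IsPrime›).mem_or_mem h).elim hv hfbp, v * gc + c, ?_⟩
    convert hc using 1
    ring

end Groth.Agent.GrMod19.Bass
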