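import Groth.Agent.GrMod19.Bass.ExtGr
import Groth.Agent.GrMod19.Bass.LocFree
import Groth.Agent.GrMod19.Bass.Principal
import Groth.Agent.GrMod19.Bass.LocalSes

/-!
Bass numbers of a graded module at a prime and at its graded core.
-/

universe u

open DirectSum CategoryTheory
open Groth.Agent.LC16

namespace Groth.Agent.GrMod19.Bass

set_option autoImplicit false

variable {R : Type u} [CommRing R]

/-- localising a cyclic module -/
theorem nonempty_quot_equiv (q P : Ideal R) [q.IsPrime] [P.IsPrime] (hqP : q ≤ P) :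
    Nonempty (LocalizedModule P.primeCompl (R ⧸ q) ≃ₗ[Localization.AtPrime P]
      Localization.AtPrime P ⧸ q.map (algebraMap R (Localization.AtPrime P))) := by
  classical
  obtain ⟨e⟩ := nonempty_finsupp_equiv (X := R ⧸ q) (s := {Submodule.Quotient.mk 1}) hqP
    (fun a ha x => by
      obtain ⟨r, rfl⟩ := Submodule.Quotient.mk_surjective _ x
      exact (Submodule.Quotient.mk_eq_zero _).2 (q.mul_mem_right r ha))
    (fun c hc v hv h j => by
      have hsub : c.support ⊆ {Submodule.Quotient.mk 1} := by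
        intro x hx
        simpa using hc hx
      rw [Finsupp.linearCombination_apply, Finsupp.sum_of_support_subset c hsub _ (by simp),
        Finset.sum_singleton, id_eq, smul_smul, ← Submodule.Quotient.mk_smul,
        Submodule.Quotient.mk_eq_zero, smul_eq_mul, mul_one] at h
      have h1 := ((‹q.IsPrime›).mem_or_mem h).resolve_left hv
      by_cases hj : j ∈ c.support
      · rwa [Finset.mem_singleton.1 (hsub hj)]
      · rw [Finsupp.notMem_support_iff.1 hj]; exact zero_mem q)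
    fun y => ⟨1, (‹P.IsPrime›).one_notMem, by
      obtain ⟨r, rfl⟩ := Submodule.Quotient.mk_surjective _ y
      exact Submodule.mem_span_singleton.2 ⟨r, by
        rw [one_smul, ← Submodule.Quotient.mk_smul, smul_eq_mul, mul_one]⟩⟩
  exact ⟨e.symm ≪≫ₗ Finsupp.LinearEquiv.finsuppUnique (Localization.AtPrime P) _ _⟩

variable {ι : Type} [AddCommGroup ι] [DecidableEq ι] [IsNoetherianRing R] (𝒜 : ι → AddSubgroup R)
  [GradedRing 𝒜] {M : Type u} [AddCommGroup M] [Module R M] (ℳ : ι → AddSubgroup M)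
  [Decomposition ℳ] [SetLike.GradedSMul 𝒜 ℳ]

include 𝒜 ℳ in
/-- Ext out of the localised domain is free with the same rank at all primes between -/
theorem exists_rank {q p : Ideal R} [q.IsPrime] [p.IsPrime] (hq : q.IsHomogeneous 𝒜)
    (hcore : ∀ (j : ι) (a : R), a ∈ 𝒜 j → a ∈ p → a ∈ q) (i : ℕ) :
    ∃ Λ : Type u, ∀ (P : Ideal R) [P.IsPrime], q ≤ P → P ≤ p →
      Nonempty ((Λ →₀ Localization.AtPrime P ⧸ q.map (algebraMap R (Localization.AtPrime P)))
        ≃ₗ[Localization.AtPrime P] CanonDual.EK (R := Localization.AtPrime P)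
          (LocalizedModule P.primeCompl M)
          (Localization.AtPrime P ⧸ q.map (algebraMap R (Localization.AtPrime P))) i) := by
  let A := GrInj18.gquot 𝒜 𝒜 (P := (q : Submodule R R)) (fun j _ hx => hq j hx)
  have : Module.Finite R A.carrier := inferInstanceAs (Module.Finite R (R ⧸ q))
  obtain ⟨𝒳, hint, hsm⟩ : Gradable 𝒜 (CanonDual.EK (R := R) M (R ⧸ q) i) := gradable_ext 𝒜 ℳ i A
  let := hint.chooseDecomposition
  have hX : ∀ a ∈ q, ∀ x : CanonDual.EK (R := R) M (R ⧸ q) i, a • x = 0 := fun a ha x =>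
    LC15.ext_smul_eq_zero_of_annihilator (fun m => by
      obtain ⟨r, rfl⟩ := Submodule.Quotient.mk_surjective _ m
      exact (Submodule.Quotient.mk_eq_zero _).2 (q.mul_mem_right r ha)) i x
  obtain ⟨s, hind, hspan⟩ := exists_family 𝒜 𝒳 q p hcore hX
  refine ⟨s, fun P _ hqP hPp => ?_⟩
  obtain ⟨e1⟩ := nonempty_finsupp_equiv hqP hX hind fun y =>
    (hspan y).imp fun v hv => ⟨fun h => hv.1 (hPp h), hv.2⟩
  obtain ⟨e2⟩ := ExtLocal.nonempty_equiv P.primeCompl M i (R ⧸ q)
  obtain ⟨e3⟩ := nonempty_quot_equiv q P hqP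
  exact ⟨e1 ≪≫ₗ e2 ≪≫ₗ CanonLocal.extCongr e3 (LinearEquiv.refl _ _) i⟩

end Groth.Agent.GrMod19.Bass

namespace Groth.Agent.GrMod19.Bass

variable {R : Type u} [CommRing R] [IsNoetherianRing R] (𝒜 : ℤ → AddSubgroup R) [GradedRing 𝒜]
  {M : Type u} [AddCommGroup M] [Module R M] (ℳ : ℤ → AddSubgroup M) [Decomposition ℳ]
  [SetLike.GradedSMul 𝒜 ℳ]

include ℳ in
/-- Bass numbers at a prime which is not graded -/
theorem bass_step (p : Ideal R) [p.IsPrime] (hp : ¬ p.IsHomogeneous 𝒜)
    [(p.homogeneousCore 𝒜).toIdeal.IsPrime] :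
    GrLC.bassNum p M 0 = 0 ∧ ∀ i, GrLC.bassNum p M (i + 1) =
      GrLC.bassNum (p.homogeneousCore 𝒜).toIdeal M i := by
  have hqh : (p.homogeneousCore 𝒜).toIdeal.IsHomogeneous 𝒜 := (p.homogeneousCore 𝒜).isHomogeneous
  have hqp : (p.homogeneousCore 𝒜).toIdeal ≤ p := Ideal.toIdeal_homogeneousCore_le 𝒜 p
  obtain ⟨f, hf, hfq, hprin⟩ := exists_principal 𝒜 p hp
  have hrank := fun i => exists_rank 𝒜 ℳ (q := (p.homogeneousCore 𝒜).toIdeal) (p := p) hqh
    (fun j a ha hap => mem_core_of_mem 𝒜 ha hap) i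
  generalize (p.homogeneousCore 𝒜).toIdeal = q at *
  choose Λ hΛ using hrank
  let Rp := Localization.AtPrime p
  have hdisj : Disjoint (p.primeCompl : Set R) q :=
    Set.disjoint_left.2 fun x hx hxq => hx (hqp hxq)
  have hJ : (q.map (algebraMap R Rp)).IsPrime :=
    IsLocalization.isPrime_of_isPrime_disjoint p.primeCompl Rp q ‹_› hdisj
  have hmax : IsLocalRing.maximalIdeal Rp =
      q.map (algebraMap R Rp) ⊔ Ideal.span {algebraMap R Rp f} := by
    rw [← Localization.AtPrime.map_eq_maximalIdeal]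
    refine le_antisymm (Ideal.map_le_iff_le_comap.2 fun g hg => ?_)
      (sup_le (Ideal.map_mono hqp) ((Ideal.span_singleton_le_iff_mem _).2 (Ideal.mem_map_of_mem _ hf)))
    obtain ⟨v, hv, c, hc⟩ := hprin g hg
    rw [Ideal.mem_comap]
    have hu : IsUnit (algebraMap R Rp v) := IsLocalization.map_units Rp (⟨v, hv⟩ : p.primeCompl)
    refine (Ideal.unit_mul_mem_iff_mem _ hu).1 ?_
    rw [← map_mul, show v * g = (v * g - c * f) + c * f by ring, map_add, map_mul _ c]
    exact add_mem (Ideal.mem_sup_left (Ideal.mem_map_of_mem _ hc))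
      (Ideal.mem_sup_right (Ideal.mul_mem_left _ _ (Ideal.mem_span_singleton_self _)))
  have haJ : ∀ x, algebraMap R Rp f * x ∈ q.map (algebraMap R Rp) → x ∈ q.map (algebraMap R Rp) :=
    fun x hx => (hJ.mem_or_mem hx).resolve_left fun h => hfq (by
      have h' : f ∈ (q.map (algebraMap R Rp)).under R := h
      rwa [IsLocalization.under_map_of_isPrime_disjoint p.primeCompl Rp ‹q.IsPrime› hdisj] at h')
  obtain ⟨h0, hs⟩ := bass_shift (LocalizedModule p.primeCompl M) _ hmax haJ Λ
    fun i => (hΛ i p hqp le_rfl).some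
  refine ⟨h0, fun i => (hs i).trans ?_⟩
  obtain ⟨e⟩ := hΛ i q le_rfl hqp
  rw [Localization.AtPrime.map_eq_maximalIdeal] at e
  exact (bass_eq_card (LocalizedModule q.primeCompl M) e).symm

end Groth.Agent.GrMod19.Bass
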